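import Cfsg.Agent.Lib.Spor.Fi22.OuterSAB.Base
import Cfsg.Agent.Lib.Spor.Fi22.TwoCent.Forms
import Cfsg.Agent.Lib.Base.Cores
import Cfsg.Prelude.Def_Transfer

/-!
The fixed group of the third outer involution is `2⁶.O₆⁻(2)`: it acts on the thirty-six pairs as the
orthogonal group, with an elementary abelian kernel of order `64`, which is its 2-core.
-/

set_option autoImplicit false
set_option maxRecDepth 100000

namespace CfsgLib.Spor.Fi22.OuterSAB

open CfsgLib.PresCert Cfsg.Spor CfsgLib.Spor.Fi22.PairCent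
open CfsgLib.Spor.FischerTypes (cls22)
open CfsgLib.Classical.ESix (V2 Q2 ent rf2 s2 s2_apply table_inj card_orth_two finite_orth_two Q2_apply)
open CfsgLib.Geometry (orth isomEquiv)
open CfsgLib.Spor.Fi22.OuterFix (okP step run tpN tpN_eq wel okP_lt step_img run_img inL inL_iff codeOf nodupB
  nodupB_spec fixP mem_fixP)

local instance : Finite Cfsg.Spor.Fi22 := Fi22.finite

/-- the index of the vector of a point -/
noncomputable def eix (x : ℕ) : ℕ := codeOf eixs x

/-- the vector of a point -/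
noncomputable def vect (x : ℕ) : V2 := (ent (Fin.ofNat 36 (eix x))).1

/-- reflection on the indices -/
noncomputable def rOf (a b : ℕ) : ℕ := (rtab.getD a []).getD b 0

theorem rtab_ok : ∀ a b : Fin 36, rf2 (ent a).1 (ent b).1 = (ent (Fin.ofNat 36 (rOf a b))).1 := by decide +kernel

theorem eix_ok : (fset.all fun x => Nat.blt (eix x) 36 && Nat.beq (eix (mate x)) (eix x) &&
      fset.all fun y => inF (step x y) && Nat.beq (eix (step x y)) (rOf (eix x) (eix y))) = true ∧
    (fset.all fun x => fset.all fun y => !Nat.beq (eix x) (eix y) || Nat.beq y x || Nat.beq y (mate x)) = true ∧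
    ((List.range 36).all fun k => fset.any fun x => Nat.beq (eix x) k) = true := by
  decide +kernel

theorem eix_spec {x : ℕ} (h : inF x = true) : eix x < 36 ∧ eix (mate x) = eix x ∧
    ∀ y, inF y = true → inF (step x y) = true ∧ eix (step x y) = rOf (eix x) (eix y) := by
  have h2 := List.all_eq_true.1 eix_ok.1 x (inF_iff.1 h)
  simp only [Bool.and_eq_true, List.all_eq_true, Nat.blt_eq, Nat.beq_eq] at h2
  exact ⟨h2.1.1, h2.1.2, fun y hy => h2.2 y (inF_iff.1 hy)⟩

theorem ofNat_val {k : ℕ} (h : k < 36) : ((Fin.ofNat 36 k : Fin 36) : ℕ) = k := Nat.mod_eq_of_lt h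

theorem vect_step {x y : ℕ} (hx : inF x = true) (hy : inF y = true) :
    vect (step x y) = rf2 (vect x) (vect y) := by
  obtain ⟨h1, -, h3⟩ := eix_spec hx
  rw [vect, vect, vect, rtab_ok, (h3 y hy).2, ofNat_val h1, ofNat_val (eix_spec hy).1]

theorem vect_eq {x y : ℕ} (hx : inF x = true) (hy : inF y = true) (h : vect x = vect y) : y = x ∨ y = mate x := by
  have e := congrArg Fin.val (table_inj _ _ h)
  rw [ofNat_val (eix_spec hx).1, ofNat_val (eix_spec hy).1] at e
  have h2 := List.all_eq_true.1 (List.all_eq_true.1 eix_ok.2.1 x (inF_iff.1 hx)) y (inF_iff.1 hy)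
  simp only [Bool.or_eq_true, Bool.not_eq_true', ← Bool.not_eq_true, Nat.beq_eq, e, not_true, false_or] at h2
  exact h2

theorem vect_all (k : Fin 36) : ∃ x : Fin Perm.data.n, inF x = true ∧ vect x = (ent k).1 := by
  have h := List.all_eq_true.1 eix_ok.2.2 k (List.mem_range.2 k.2)
  obtain ⟨x, hx, e⟩ := List.any_eq_true.1 h
  obtain ⟨i, rfl⟩ := exists_fin (inF_iff.2 hx)
  exact ⟨i, inF_iff.2 hx, by rw [vect, Nat.eq_of_beq_eq_true e, show Fin.ofNat 36 (k : ℕ) = k from Fin.ext (ofNat_val k.2)]⟩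

/-- acting alike on the fixed points -/
noncomputable def graph : Subgroup (uGrp × orth Q2) where
  carrier := {z | ∀ i : Fin Perm.data.n, inF i = true →
    z.2.1 (vect i) = vect (π (z.1 : Cfsg.Spor.Fi22) i : Fin Perm.data.n)}
  one_mem' := fun i _ => by simp
  mul_mem' {a b} ha hb := fun i hi => by
    show a.2.1 (b.2.1 (vect i)) = vect (π ((a.1 : Cfsg.Spor.Fi22) * b.1) i : Fin Perm.data.n)
    rw [map_mul, Equiv.Perm.mul_apply, hb i hi, ha _ (uGrp_inF b.1.2 hi)]
  inv_mem' {a} ha := fun i hi => by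
    show a.2.1.symm (vect i) = vect (π (a.1 : Cfsg.Spor.Fi22)⁻¹ i : Fin Perm.data.n)
    rw [LinearEquiv.symm_apply_eq, ha _ (uGrp_inF (inv_mem a.1.2) hi), ← Equiv.Perm.mul_apply, ← map_mul,
      mul_inv_cancel, map_one, Equiv.Perm.one_apply]

theorem graph_unique {c : uGrp} {A B : orth Q2} (hA : (c, A) ∈ graph) (hB : (c, B) ∈ graph) : A = B := by
  have h : B⁻¹ * A = 1 := TwoCent.eq_one_of_fix fun k => by
    obtain ⟨x, hx, e⟩ := vect_all k
    show B.1.symm (A.1 (ent k).1) = (ent k).1
    rw [LinearEquiv.symm_apply_eq, ← e, hA x hx, hB x hx]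
  exact (inv_mul_eq_one.1 h).symm

/-- the elements with an image -/
noncomputable def good : Subgroup Cfsg.Spor.Fi22 := (graph.map (MonoidHom.fst _ _)).map uGrp.subtype

theorem tp_good {x : ℕ} (h : inF x = true) : tpN x ∈ good := by
  refine ⟨⟨tpN x, tp_uGrp h⟩, ⟨(⟨tpN x, tp_uGrp h⟩, s2 (Fin.ofNat 36 (eix x))), fun i hi => ?_, rfl⟩, rfl⟩
  rw [s2_apply, step_img (okP_F h)]
  exact (vect_step h hi).symm

theorem wel_good {w : List ℕ} (h : ∀ k ∈ w, inF k = true) : wel w ∈ good := list_prod_mem fun y hy => by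
  obtain ⟨k, hk, rfl⟩ := List.mem_map.1 hy
  exact tp_good (h k (List.mem_reverse.1 hk))

theorem good_le : good ≤ uGrp := by
  rintro _ ⟨c, -, rfl⟩
  exact c.2

/-- one level: transversal words for all the candidates -/
noncomputable def okLev (prev : List ℕ) (L : ℕ × List (ℕ × List ℕ)) : Bool :=
  inF L.1 && nodupB (L.2.map Prod.fst) && !inL (prev ++ prev.map mate) L.1 &&
    (L.2.all fun e => e.2.all inF && Nat.beq (run e.2 L.1) e.1 && prev.all fun p => Nat.beq (run e.2 p) p) &&
    fset.all fun x => inL (prev ++ prev.map mate) x || !(prev.all fun p => com p x == com p L.1) ||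
      inL (L.2.map Prod.fst) x

/-- all levels -/
noncomputable def okChain : List ℕ → List (ℕ × List (ℕ × List ℕ)) → Bool
  | prev, [] => prev.all inF
  | prev, L :: ls => prev.all inF && okLev prev L && okChain (L.1 :: prev) ls

theorem chain_ok : okChain [] levels = true ∧ (levels.map fun L => L.2.length).prod = 3317760 ∧
    levels.length = 6 := by
  decide +kernel

theorem sift : ∀ (ls : List (ℕ × List (ℕ × List ℕ))) (prev : List ℕ), okChain prev ls = true →
    (∀ b ∈ levels.map Prod.fst, b ∈ prev ∨ b ∈ ls.map Prod.fst) →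
    ∀ c ∈ uGrp, c ∈ fixP prev → c ∈ good
  | [], prev, _, hall, c, hc, hfix => by
    rw [eq_one_of_bases hc fun b hb i hi => mem_fixP.1 hfix b ((hall b hb).resolve_right (by simp)) i hi]
    exact one_mem _
  | L :: ls, prev, h, hall, c, hc, hfix => by
    simp only [okChain, okLev, Bool.and_eq_true, List.all_eq_true, Nat.beq_eq] at h
    obtain ⟨⟨hpF, ⟨⟨⟨hb, -⟩, hnew⟩, hws⟩, hcand⟩, hrest⟩ := h
    obtain ⟨p, hp⟩ := exists_fin hb
    rw [hp] at hb
    have h2 := hcand _ (inF_iff.1 (uGrp_inF hc hb))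
    simp only [Bool.or_eq_true, inL_iff, Bool.not_eq_true', ← Bool.not_eq_true, List.all_eq_true,
      beq_iff_eq] at h2
    have hmfix : ∀ q ∈ prev ++ prev.map mate, FixN c q := by
      intro q hq i hi
      rcases List.mem_append.1 hq with hq | hq
      · exact mem_fixP.1 hfix q hq i hi
      · obtain ⟨r, hr, rfl⟩ := List.mem_map.1 hq
        obtain ⟨ri, rfl⟩ := exists_fin (hpF r hr)
        have e := mate_map hc (j := i) (hpF _ hr) hi
        rw [mem_fixP.1 hfix _ hr ri rfl, ← hi] at e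
        exact Fin.ext e
    rcases h2 with (h2 | h2) | h2
    · exfalso
      have hq := hmfix _ h2 (π c p) rfl
      rw [(π c).injective hq, ← hp] at h2
      rw [Bool.not_eq_true', ← Bool.not_eq_true, inL_iff] at hnew
      exact hnew h2
    · exfalso
      refine h2 fun q hq => ?_
      obtain ⟨qi, rfl⟩ := exists_fin (hpF q hq)
      rw [hp]
      exact com_fix (okP_F (hpF _ hq)) (mem_fixP.1 hfix _ hq qi rfl) p
    · obtain ⟨e, he, hee⟩ := List.mem_map.1 h2
      obtain ⟨⟨hw0, hwb⟩, hwp⟩ := hws e he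
      have hwk : ∀ k ∈ e.2, okP k = true := fun k hk => okP_F (hw0 k hk)
      have hwG := wel_good hw0
      have hc' : (wel e.2)⁻¹ * c ∈ good := by
        refine sift ls (L.1 :: prev) hrest (fun b hb' => ?_) _ (mul_mem (inv_mem (good_le hwG)) hc) (mem_fixP.2 ?_)
        · rcases hall b hb' with q | q
          · exact Or.inl (List.mem_cons_of_mem _ q)
          · rcases List.mem_cons.1 q with q | q
            · exact Or.inl (List.mem_cons.2 (Or.inl q))
            · exact Or.inr q
        · intro q hq i hi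
          rw [map_mul, Equiv.Perm.mul_apply, map_inv, Equiv.Perm.inv_eq_iff_eq]
          rcases List.mem_cons.1 hq with rfl | hq
          · refine Fin.ext ?_
            rw [run_img _ hwk, hi, hwb, hee, show i = p from Fin.ext (hi.trans hp)]
          · rw [mem_fixP.1 hfix q hq i hi]
            exact (Fin.ext (by rw [run_img _ hwk, hi, hwp q hq])).symm
      have := mul_mem hwG hc'
      rwa [mul_inv_cancel_left] at this

theorem good_eq : good = uGrp := le_antisymm good_le fun c hc =>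
  sift levels [] chain_ok.1 (fun _ hb => Or.inr hb) c hc (mem_fixP.2 fun _ hp => absurd hp List.not_mem_nil)

theorem card_lower : ∀ (ls : List (ℕ × List (ℕ × List ℕ))) (prev : List ℕ), okChain prev ls = true →
    (ls.map fun L => L.2.length).prod ≤ Nat.card ↥(uGrp ⊓ fixP prev)
  | [], prev, _ => by simp only [List.map_nil, List.prod_nil]; exact Nat.card_pos
  | L :: ls, prev, h => by
    simp only [okChain, okLev, Bool.and_eq_true, List.all_eq_true, Nat.beq_eq] at h
    obtain ⟨⟨-, ⟨⟨⟨hb, hnd⟩, -⟩, hws⟩, -⟩, hrest⟩ := h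
    obtain ⟨p, hp⟩ := exists_fin hb
    have hwk : ∀ e ∈ L.2, ∀ k ∈ e.2, okP k = true := fun e he k hk => okP_F ((hws e he).1.1 k hk)
    have hmem : ∀ e ∈ L.2, wel e.2 ∈ uGrp ⊓ fixP prev := fun e he =>
      Subgroup.mem_inf.2 ⟨good_le (wel_good (hws e he).1.1), mem_fixP.2 fun q hq i hi => Fin.ext (by
        rw [run_img _ (hwk e he), hi, (hws e he).2 q hq])⟩
    have hle : uGrp ⊓ fixP (L.1 :: prev) ≤ uGrp ⊓ fixP prev :=
      inf_le_inf_left _ fun x hx => mem_fixP.2 fun q hq => mem_fixP.1 hx q (List.mem_cons_of_mem _ hq)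
    obtain ⟨f, hf⟩ : ∃ f : Fin L.2.length × ↥(uGrp ⊓ fixP (L.1 :: prev)) → ↥(uGrp ⊓ fixP prev),
        ∀ z, (f z : Cfsg.Spor.Fi22) = wel (L.2.get z.1).2 * z.2 :=
      ⟨fun z => ⟨_, mul_mem (hmem _ (L.2.get_mem z.1)) (hle z.2.2)⟩, fun _ => rfl⟩
    have himg : ∀ z, ((π (f z : Cfsg.Spor.Fi22) p : Fin Perm.data.n) : ℕ) = (L.2.get z.1).1 := fun z => by
      rw [hf, map_mul, Equiv.Perm.mul_apply, mem_fixP.1 (Subgroup.mem_inf.1 z.2.2).2 _ List.mem_cons_self p hp.symm,
        run_img _ (hwk _ (L.2.get_mem z.1)), ← hp, (hws _ (L.2.get_mem z.1)).1.2]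
    have hinj : Function.Injective f := by
      intro z z' hzz
      have e1 := himg z
      rw [hzz, himg z'] at e1
      have hk : z.1 = z'.1 := by
        refine Fin.ext (((nodupB_spec hnd).getElem_inj_iff (i := (z.1 : ℕ)) (hi := by simp) (j := (z'.1 : ℕ))
          (hj := by simp)).1 ?_)
        simp only [List.getElem_map]
        exact e1.symm
      refine Prod.ext hk (Subtype.ext ?_)
      have e2 := congrArg Subtype.val hzz
      rw [hf, hf, hk] at e2
      exact mul_left_cancel e2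
    have hcard := Nat.card_le_card_of_injective f hinj
    rw [Nat.card_prod, Nat.card_fin] at hcard
    rw [List.map_cons, List.prod_cons]
    exact (Nat.mul_le_mul_left _ (card_lower ls _ hrest)).trans hcard

theorem card_uGrp_ge : 3317760 ≤ Nat.card uGrp := by
  have h := card_lower levels [] chain_ok.1
  rw [chain_ok.2.1] at h
  exact h.trans (Nat.card_le_card_of_injective (Subgroup.inclusion inf_le_left) (Subgroup.inclusion_injective _))

theorem exists_image (c : uGrp) : ∃ A, (c, A) ∈ graph := by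
  have h : (c : Cfsg.Spor.Fi22) ∈ good := by rw [good_eq]; exact c.2
  obtain ⟨d, ⟨⟨d', A⟩, hA, rfl⟩, hd⟩ := h
  exact ⟨A, (show d' = c from Subtype.ext hd) ▸ hA⟩

/-- the action on the pairs -/
noncomputable def act : uGrp →* orth Q2 :=
  MonoidHom.mk' (fun c => (exists_image c).choose) fun c d =>
    graph_unique (exists_image (c * d)).choose_spec
      (mul_mem (exists_image c).choose_spec (exists_image d).choose_spec)

theorem act_spec (c : uGrp) {i : Fin Perm.data.n} (hi : inF i = true) :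
    (act c).1 (vect i) = vect (π (c : Cfsg.Spor.Fi22) i : Fin Perm.data.n) :=
  (exists_image c).choose_spec i hi

theorem ker_cases {c : uGrp} (hc : c ∈ act.ker) {i : Fin Perm.data.n} (hi : inF i = true) :
    π (c : Cfsg.Spor.Fi22) i = i ∨ ((π (c : Cfsg.Spor.Fi22) i : Fin Perm.data.n) : ℕ) = mate i := by
  have h := act_spec c hi
  rw [MonoidHom.mem_ker.1 hc] at h
  rcases vect_eq hi (uGrp_inF c.2 hi) h with e | e
  exacts [Or.inl (Fin.ext e), Or.inr e]

theorem ker_sq {c : uGrp} (hc : c ∈ act.ker) : c * c = 1 := by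
  refine Subtype.ext (eq_one_of_fixes (c := (c : Cfsg.Spor.Fi22) * c) fun i hi => ?_)
  rw [map_mul, Equiv.Perm.mul_apply]
  rcases ker_cases hc hi with e | e
  · rw [e, e]
  · obtain ⟨-, -, h3, -⟩ := mate_spec hi
    refine Fin.ext ?_
    rw [mate_map c.2 hi e, e, h3]

theorem bases_fin (k : Fin 6) : ∃ b : Fin Perm.data.n,
    inF b = true ∧ ((levels.map Prod.fst).getD k 0) = b := by
  have hchk : ((List.range 6).all fun k => inF ((levels.map Prod.fst).getD k 0)) = true := by decide +kernel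
  have h := List.all_eq_true.1 hchk k (List.mem_range.2 k.2)
  obtain ⟨i, hi⟩ := exists_fin h
  exact ⟨i, hi ▸ h, hi⟩

theorem card_ker_le : Nat.card act.ker ≤ 64 := by
  choose b hb hbv using bases_fin
  obtain ⟨f, hf⟩ : ∃ f : act.ker → (Fin 6 → Bool),
      ∀ c k, f c k = decide (π ((c : uGrp) : Cfsg.Spor.Fi22) (b k) = b k) :=
    ⟨fun c k => decide (π ((c : uGrp) : Cfsg.Spor.Fi22) (b k) = b k), fun _ _ => rfl⟩
  have hinj : Function.Injective f := by
    intro c d h
    have hb' : ∀ k, π ((c : uGrp) : Cfsg.Spor.Fi22) (b k) = π ((d : uGrp) : Cfsg.Spor.Fi22) (b k) := by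
      intro k
      have e := congrFun h k
      rw [hf, hf, decide_eq_decide] at e
      rcases ker_cases c.2 (hb k) with p | p <;> rcases ker_cases d.2 (hb k) with q | q
      · rw [p, q]
      · rw [p, e.1 p]
      · rw [q, e.2 q]
      · exact Fin.ext (p.trans q.symm)
    have h1 := eq_one_of_bases (c := ((c : uGrp) : Cfsg.Spor.Fi22)⁻¹ * (d : uGrp))
      (mul_mem (inv_mem (c : uGrp).2) (d : uGrp).2) fun x hx i hi => by
        obtain ⟨k, hk, hkx⟩ := List.getElem_of_mem hx
        rw [List.length_map, chain_ok.2.2] at hk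
        have : i = b ⟨k, hk⟩ := Fin.ext (by rw [hi, ← hbv ⟨k, hk⟩, List.getD_eq_getElem _ _ (by simp [chain_ok.2.2, hk]), hkx])
        rw [this, map_mul, Equiv.Perm.mul_apply, ← hb', ← Equiv.Perm.mul_apply, ← map_mul, inv_mul_cancel, map_one,
          Equiv.Perm.one_apply]
    exact Subtype.ext (Subtype.ext (inv_mul_eq_one.1 h1))
  refine (Nat.card_le_card_of_injective f hinj).trans ?_
  rw [Nat.card_fun, Nat.card_eq_fintype_card, Fintype.card_bool, Nat.card_fin]
  norm_num

theorem act_facts : Nat.card act.ker = 64 ∧ Function.Surjective act ∧ Nat.card uGrp = 3317760 := by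
  haveI : Finite (orth Q2) := finite_orth_two
  have h1 := card_ker_le
  have h2 := card_uGrp_ge
  have h3 : Nat.card act.range ≤ 51840 := card_orth_two ▸ Subgroup.card_le_card_group _
  have h4 := act.ker.card_mul_index
  rw [Subgroup.index_ker] at h4
  have h5 : Nat.card act.ker = 64 := by
    refine le_antisymm h1 (Nat.le_of_mul_le_mul_right ?_ (by norm_num : 0 < 51840))
    calc 64 * 51840 = 3317760 := by norm_num
      _ ≤ Nat.card act.ker * Nat.card act.range := h4 ▸ h2
      _ ≤ _ := Nat.mul_le_mul_left _ h3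
  rw [h5] at h4
  have h6 : Nat.card act.range = 51840 := by omega
  refine ⟨h5, MonoidHom.range_eq_top.1 (Subgroup.eq_top_of_card_eq _ (by rw [h6, card_orth_two])), ?_⟩
  omega

theorem isPGroup_ker : IsPGroup 2 act.ker := fun c => ⟨1, by
  rw [pow_one, pow_two]
  exact Subtype.ext (ker_sq c.2)⟩

theorem pCore_eq : Cfsg.pCore 2 uGrp = act.ker := by
  refine le_antisymm ?_ (CfsgLib.Base.le_pCore isPGroup_ker)
  haveI : ((Cfsg.pCore 2 uGrp).map act).Normal := Subgroup.Normal.map inferInstance act act_facts.2.1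
  have := TwoCent.normal_two_trivial _ ((CfsgLib.Base.isPGroup_pCore 2 uGrp).map act)
  rwa [Subgroup.map_eq_bot_iff] at this

/-- the fixed group of the third outer involution -/
theorem structure_thm : ∃ O : Subgroup Cfsg.Spor.Fi22, O = (Cfsg.pCore 2 uGrp).map uGrp.subtype ∧
    Cfsg.IsElementaryAbelian 2 O ∧ Nat.card O = 64 ∧ ∃ _ : (O.subgroupOf uGrp).Normal,
      Nonempty (↥uGrp ⧸ O.subgroupOf uGrp ≃* Cfsg.isometryGroup (ZMod 2) (Cfsg.quadFormMinus 2 (ZMod 2) 1 1)) := by
  obtain ⟨O, hO⟩ : ∃ O, O = (Cfsg.pCore 2 uGrp).map uGrp.subtype := ⟨_, rfl⟩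
  have hmem : ∀ a ∈ O, a * a = 1 := by
    intro a ha
    rw [hO, pCore_eq] at ha
    obtain ⟨c, hc, rfl⟩ := ha
    exact congrArg Subtype.val (ker_sq hc)
  have hsub : O.subgroupOf uGrp = act.ker := by
    rw [hO, pCore_eq, Subgroup.subgroupOf, Subgroup.comap_map_eq_self_of_injective Subtype.val_injective]
  refine ⟨O, hO, ⟨⟨⟨fun a b => Subtype.ext ?_⟩⟩, fun a ha => by rw [pow_two]; exact hmem a ha⟩, ?_, ?_⟩
  · have ha := hmem _ a.2
    have hb := hmem _ b.2
    have hab := hmem _ (mul_mem a.2 b.2)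
    show (a : Cfsg.Spor.Fi22) * b = b * a
    calc (a : Cfsg.Spor.Fi22) * b = ((a : Cfsg.Spor.Fi22) * b)⁻¹ := (inv_eq_of_mul_eq_one_right hab).symm
      _ = _ := by rw [mul_inv_rev, inv_eq_of_mul_eq_one_right ha, inv_eq_of_mul_eq_one_right hb]
  · rw [hO, pCore_eq, ← act_facts.1]
    exact (Nat.card_congr (act.ker.equivMapOfInjective _ Subtype.val_injective).toEquiv).symm
  · haveI hn : (O.subgroupOf uGrp).Normal := by rw [hsub]; infer_instance
    refine ⟨hn, ⟨(QuotientGroup.quotientMulEquivOfEq hsub).trans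
      ((QuotientGroup.quotientKerEquivOfSurjective act act_facts.2.1).trans ?_)⟩⟩
    have h : (⇑Q2 : V2 → ZMod 2) = Cfsg.quadFormMinus 2 (ZMod 2) 1 1 := funext Q2_apply
    rw [← h]
    exact (isomEquiv Q2).symm

end CfsgLib.Spor.Fi22.OuterSAB
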