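import Cfsg.Agent.Lib.Spor.Fi22.OuterFix.Levels
import Cfsg.Agent.Lib.Spor.Fi22.OuterClass.Data
import Cfsg.Agent.Lib.Spor.Fi22.OuterSAB.Data

/-!
The outer involution times two commuting fixed transpositions: seventy-two fixed transpositions in
thirty-six pairs; only the identity fixes all of them; the fixed group is caught by six of them.
-/

set_option autoImplicit false
set_option maxRecDepth 100000

namespace CfsgLib.Spor.Fi22.OuterSAB

open CfsgLib.PresCert Cfsg.Spor CfsgLib.Spor.Fi22.PairCent
open CfsgLib.Spor.FischerTypes (cls22 genAt)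
open CfsgLib.Spor.Fi22.OuterFix (okP step run tpN tpN_eq wel wel_singleton okP_lt step_img run_img step_commute inL
  inL_iff codeOf nodupB nodupB_spec tau_tp fixP mem_fixP)
open CfsgLib.Spor.Fi22.OuterClass (stdA stdB)

local instance : Finite Cfsg.Spor.Fi22 := Fi22.finite

/-- the product of the two transpositions -/
noncomputable def abEl : Cfsg.Spor.Fi22 := tpN stdA * tpN stdB

/-- the involution -/
noncomputable def sab : MulAut Cfsg.Spor.Fi22 := PairCent.tau * MulAut.conj abEl

/-- its action on numbers -/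
noncomputable def sMap (i : ℕ) : ℕ := PairCent.tauTab.half (step stdA (step stdB i))

/-- commutation of the transpositions of two points -/
noncomputable def com (z x : ℕ) : Bool := Nat.beq (step z x) x

/-- membership among the fixed points -/
noncomputable def inF (i : ℕ) : Bool := inL fset i

/-- the partner -/
noncomputable def mate (x : ℕ) : ℕ := codeOf mates x

theorem std_ok : (okP stdA && okP stdB) = true ∧ (allBelow 3510 fun i => Nat.beq (sMap i) i == inF i) = true ∧
    (fset.all okP) = true := by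
  decide +kernel

/-- its permutation -/
noncomputable def sPerm : Equiv.Perm (Fin Perm.data.n) := sigmaP * π abEl

theorem sPerm_val (i : Fin Perm.data.n) : ((sPerm i : Fin Perm.data.n) : ℕ) = sMap i := by
  have h := std_ok.1
  rw [Bool.and_eq_true] at h
  rw [sPerm, Equiv.Perm.mul_apply, sigmaP_val, sMap, abEl, map_mul, Equiv.Perm.mul_apply, step_img h.1, step_img h.2]

theorem sab_tp (i : Fin Perm.data.n) : sab (cls22.tp i) = cls22.tp (sPerm i) := by
  rw [sab, MulAut.mul_apply, MulAut.conj_apply, cls22.conj_tp, tau_tp]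
  rfl

theorem fixed_iff (i : Fin Perm.data.n) : sPerm i = i ↔ inF i = true := by
  have h := allBelow_spec std_ok.2.1 i i.2
  rw [beq_iff_eq, Bool.eq_iff_iff, Nat.beq_eq] at h
  rw [Fin.ext_iff, sPerm_val]
  exact h

theorem inF_iff {x : ℕ} : inF x = true ↔ x ∈ fset := inL_iff

theorem okP_F {x : ℕ} (h : inF x = true) : okP x = true := List.all_eq_true.1 std_ok.2.2 x (inF_iff.1 h)

theorem exists_fin {x : ℕ} (h : inF x = true) : ∃ i : Fin Perm.data.n, x = i := ⟨⟨x, okP_lt (okP_F h)⟩, rfl⟩

/-- the fixed group -/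
noncomputable def uGrp : Subgroup Cfsg.Spor.Fi22 where
  carrier := {g | sab g = g}
  one_mem' := map_one sab
  mul_mem' {a b} ha hb := by
    show sab (a * b) = a * b
    rw [map_mul, show sab a = a from ha, show sab b = b from hb]
  inv_mem' {a} ha := by
    show sab a⁻¹ = a⁻¹
    rw [map_inv, show sab a = a from ha]

theorem mem_uGrp {g : Cfsg.Spor.Fi22} : g ∈ uGrp ↔ sab g = g := Iff.rfl

theorem tp_uGrp {x : ℕ} (h : inF x = true) : tpN x ∈ uGrp := by
  obtain ⟨i, rfl⟩ := exists_fin h
  rw [mem_uGrp, tpN_eq, sab_tp, (fixed_iff i).2 h]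

theorem uGrp_inF {c : Cfsg.Spor.Fi22} (hc : c ∈ uGrp) {i : Fin Perm.data.n} (h : inF i = true) :
    inF (π c i : Fin Perm.data.n) = true := by
  rw [← fixed_iff] at h ⊢
  refine cls22.tp_injective ?_
  rw [← sab_tp, show cls22.tp (π c i) = c * cls22.tp i * c⁻¹ from (cls22.conj_tp c i).symm, map_mul, map_mul, map_inv,
    mem_uGrp.1 hc, sab_tp, h]

theorem com_map (c : Cfsg.Spor.Fi22) {z x : Fin Perm.data.n} (hz : okP z = true)
    (hz' : okP (π c z : Fin Perm.data.n) = true) :
    com (π c z : Fin Perm.data.n) (π c x : Fin Perm.data.n) = com z x := by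
  rw [com, com, Bool.eq_iff_iff, Nat.beq_eq, Nat.beq_eq, step_commute hz, step_commute hz', tpN_eq, tpN_eq,
    show cls22.tp (π c z) = MulAut.conj c (cls22.tp z) from (cls22.conj_tp c z).symm,
    show cls22.tp (π c x) = MulAut.conj c (cls22.tp x) from (cls22.conj_tp c x).symm]
  constructor
  · intro q
    simpa [mul_assoc] using q.map (MulAut.conj c).symm
  · exact fun q => q.map (MulAut.conj c)

theorem com_fix {c : Cfsg.Spor.Fi22} {z : Fin Perm.data.n} (hz : okP z = true) (hc : π c z = z)
    (x : Fin Perm.data.n) : com z (π c x : Fin Perm.data.n) = com z x := by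
  have h := com_map c (z := z) (x := x) hz (by rw [hc]; exact hz)
  rwa [hc] at h

theorem step_fix {c : Cfsg.Spor.Fi22} {x y : Fin Perm.data.n} (hx : okP x = true) (h1 : π c x = x) (h2 : π c y = y) :
    π c (π (tpN x) y) = π (tpN x) y := by
  refine cls22.tp_injective ?_
  have e1 : c * cls22.tp x * c⁻¹ = cls22.tp x := (cls22.conj_tp c x).trans (congrArg cls22.tp h1)
  have e2 : c * cls22.tp y * c⁻¹ = cls22.tp y := (cls22.conj_tp c y).trans (congrArg cls22.tp h2)
  have e : cls22.tp (π (tpN x) y) = cls22.tp x * cls22.tp y * (cls22.tp x)⁻¹ := by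
    rw [tpN_eq]; exact (cls22.conj_tp _ y).symm
  rw [show cls22.tp (π c (π (tpN x) y)) = c * cls22.tp (π (tpN x) y) * c⁻¹ from (cls22.conj_tp c _).symm, e]
  calc c * (cls22.tp x * cls22.tp y * (cls22.tp x)⁻¹) * c⁻¹
      = c * cls22.tp x * c⁻¹ * (c * cls22.tp y * c⁻¹) * (c * cls22.tp x * c⁻¹)⁻¹ := by group
    _ = _ := by rw [e1, e2]

/-- the neighbourhood of a point among the fixed points -/
noncomputable def rowC (x : ℕ) : ℕ :=
  fset.foldr (fun z acc => Nat.add (Nat.mul 2 acc) (cond (com z x) 1 0)) 0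

theorem mates_ok : (fset.all fun x => inF (mate x) && !Nat.beq (mate x) x && Nat.beq (mate (mate x)) x &&
    Nat.beq (rowC (mate x)) (rowC x)) = true ∧
    (fset.all fun x => Nat.beq (rowC x) (codeOf (fset.zip rows) x)) = true ∧
    ((fset.zip rows).all fun e => Nat.beq (codeOf (fset.zip rows) e.1) e.2 &&
      (fset.zip rows).all fun f => !Nat.beq e.2 f.2 || Nat.beq f.1 e.1 || Nat.beq f.1 (mate e.1)) = true ∧
    (fset.all fun x => inL ((fset.zip rows).map Prod.fst) x) = true := by
  decide +kernel

theorem mate_spec {x : ℕ} (h : inF x = true) :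
    inF (mate x) = true ∧ mate x ≠ x ∧ mate (mate x) = x ∧ rowC (mate x) = rowC x := by
  have h2 := List.all_eq_true.1 mates_ok.1 x (inF_iff.1 h)
  simp only [Bool.and_eq_true, Bool.not_eq_true', ← Bool.not_eq_true, Nat.beq_eq] at h2
  exact ⟨h2.1.1.1, h2.1.1.2, h2.1.2, h2.2⟩

theorem row_unique {x y : ℕ} (hx : inF x = true) (hy : inF y = true) (h : rowC y = rowC x) : y = x ∨ y = mate x := by
  have ha := List.all_eq_true.1 mates_ok.2.1
  have e1 := Nat.eq_of_beq_eq_true (ha x (inF_iff.1 hx))
  have e2 := Nat.eq_of_beq_eq_true (ha y (inF_iff.1 hy))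
  have hm : ∀ w, inF w = true → (w, codeOf (fset.zip rows) w) ∈ fset.zip rows := by
    intro w hw
    have h1 := List.all_eq_true.1 mates_ok.2.2.2 w (inF_iff.1 hw)
    rw [inL_iff, List.mem_map] at h1
    obtain ⟨e, he, rfl⟩ := h1
    have h3 := List.all_eq_true.1 mates_ok.2.2.1 e he
    rw [Bool.and_eq_true] at h3
    rw [Nat.eq_of_beq_eq_true h3.1]
    exact he
  have h3 := List.all_eq_true.1 mates_ok.2.2.1 _ (hm x hx)
  rw [Bool.and_eq_true] at h3
  have h4 := List.all_eq_true.1 h3.2 _ (hm y hy)
  simp only [Bool.or_eq_true, Bool.not_eq_true', ← Bool.not_eq_true, Nat.beq_eq, ← e1, ← e2, h, not_true,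
    false_or] at h4
  exact h4

theorem code_bits : ∀ (l : List ℕ) (f g : ℕ → Bool),
    l.foldr (fun z acc => Nat.add (Nat.mul 2 acc) (cond (f z) 1 0)) 0 =
      l.foldr (fun z acc => Nat.add (Nat.mul 2 acc) (cond (g z) 1 0)) 0 → ∀ z ∈ l, f z = g z
  | [], _, _, _, z, hz => absurd hz List.not_mem_nil
  | a :: l, f, g, h, z, hz => by
    simp only [List.foldr_cons, Nat.add_eq, Nat.mul_eq] at h
    have hh : f a = g a := by cases hf : f a <;> cases hg : g a <;> simp [hf, hg] at h ⊢ <;> omega
    rcases List.mem_cons.1 hz with rfl | hz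
    · exact hh
    · refine code_bits l f g ?_ z hz
      simp only [Nat.add_eq, Nat.mul_eq]
      rw [hh] at h
      omega

/-- the fixed group respects the pairs -/
theorem mate_map {c : Cfsg.Spor.Fi22} (hc : c ∈ uGrp) {i j : Fin Perm.data.n} (hi : inF i = true)
    (hj : (j : ℕ) = mate i) : ((π c j : Fin Perm.data.n) : ℕ) = mate (π c i : Fin Perm.data.n) := by
  obtain ⟨h1, h2, -, h4⟩ := mate_spec hi
  have hjF : inF j = true := hj ▸ h1
  have hrow : rowC (π c j : Fin Perm.data.n) = rowC (π c i : Fin Perm.data.n) := by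
    have key : ∀ z ∈ fset, com z (π c j : Fin Perm.data.n) = com z (π c i : Fin Perm.data.n) := by
      intro z hz
      obtain ⟨w, rfl⟩ := exists_fin (inF_iff.2 hz)
      obtain ⟨w0, rfl⟩ : ∃ w0, π c w0 = w := ⟨π c⁻¹ w, by
        rw [← Equiv.Perm.mul_apply, ← map_mul, mul_inv_cancel, map_one, Equiv.Perm.one_apply]⟩
      have hw0 : inF w0 = true := by
        have := uGrp_inF (inv_mem hc) (inF_iff.2 hz)
        rwa [← Equiv.Perm.mul_apply, ← map_mul, inv_mul_cancel, map_one, Equiv.Perm.one_apply] at this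
      rw [com_map c (okP_F hw0) (okP_F (inF_iff.2 hz)), com_map c (okP_F hw0) (okP_F (inF_iff.2 hz)), hj]
      exact code_bits fset (fun z => com z (mate i)) (fun z => com z i) h4 _ (inF_iff.1 hw0)
    unfold rowC
    revert key
    generalize fset = l
    intro key
    induction l with
    | nil => rfl
    | cons a l ih =>
      simp only [List.foldr_cons]
      rw [key a List.mem_cons_self, ih fun z hz => key z (List.mem_cons_of_mem _ hz)]
  refine (row_unique (uGrp_inF hc hi) (uGrp_inF hc hjF) hrow).resolve_left fun e => h2 ?_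
  rw [← hj, (π c).injective (Fin.ext e)]

/-- the checked derivation of further points from known ones -/
noncomputable def okDer : List (ℕ × ℕ × ℕ) → List ℕ → List ℕ → Bool
  | [], known, goal => goal.all (inL known)
  | (a, b, c) :: rest, known, goal =>
    inF a && inL known a && inF b && inL known b && inF c && (Nat.beq c (mate a) || Nat.beq c (step a b)) &&
      okDer rest (c :: known) goal

/-- the property of being fixed -/
def FixN (c : Cfsg.Spor.Fi22) (x : ℕ) : Prop := ∀ i : Fin Perm.data.n, (i : ℕ) = x → π c i = i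

theorem der_fix {c : Cfsg.Spor.Fi22} (hc : c ∈ uGrp) : ∀ (l : List (ℕ × ℕ × ℕ)) (known goal : List ℕ),
    okDer l known goal = true → (∀ p ∈ known, FixN c p) → ∀ x ∈ goal, FixN c x
  | [], known, goal, h, hk, x, hx => by
    rw [okDer, List.all_eq_true] at h
    exact hk x (inL_iff.1 (h x hx))
  | (a, b, z) :: rest, known, goal, h, hk, x, hx => by
    simp only [okDer, Bool.and_eq_true, Bool.or_eq_true, inL_iff, Nat.beq_eq] at h
    obtain ⟨⟨⟨⟨⟨⟨ha, hka⟩, hkbF⟩, hkb⟩, -⟩, hs⟩, hrest⟩ := h
    refine der_fix hc rest _ goal hrest (fun p hp => ?_) x hx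
    rcases List.mem_cons.1 hp with rfl | hp
    swap
    · exact hk p hp
    intro i hi
    obtain ⟨ai, rfl⟩ := exists_fin ha
    rcases hs with hs | hs
    · have := mate_map hc (j := i) ha (by rw [hi, hs])
      rw [hk _ hka ai rfl, ← hs, ← hi] at this
      exact Fin.ext this
    · obtain ⟨bi, rfl⟩ := exists_fin hkbF
      have e : i = π (tpN (ai : ℕ)) bi := Fin.ext (by rw [hi, hs, step_img (okP_F ha)])
      rw [e]
      exact step_fix (okP_F ha) (hk _ hka ai rfl) (hk _ hkb bi rfl)

/-- steps reaching the generators from the fixed points and one moved point -/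
noncomputable def okSteps : List (ℕ × ℕ × ℕ) → List ℕ → Bool
  | [], known => (List.range 9).all fun k =>
      inF (genPts.getD k 0) || inL known (genPts.getD k 0)
  | (a, b, c) :: rest, known =>
    okP a && okP b && okP c && (inF a || inL known a) && (inF b || inL known b) &&
      Nat.beq (step a b) c && okSteps rest (c :: known)

theorem steps_ok : okSteps chain [movedPt] = true := by decide +kernel

theorem aut_chain {θ : MulAut Cfsg.Spor.Fi22}
    (hF : ∀ i : Fin Perm.data.n, inF i = true → θ (cls22.tp i) = cls22.tp i) :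
    ∀ (l : List (ℕ × ℕ × ℕ)) (known : List ℕ), okSteps l known = true →
      (∀ p ∈ known, θ (tpN p) = tpN p) → θ = 1 := by
  intro l
  induction l with
  | nil =>
    intro known h hk
    rw [okSteps, List.all_eq_true] at h
    have hg : ∀ k, k < 9 → θ (gen (genAt k)) = gen (genAt k) := fun k hk' => by
      rw [← tp_genPt k hk']
      have h2 := h k (List.mem_range.2 hk')
      rw [Bool.or_eq_true, inL_iff] at h2
      rcases h2 with h2 | h2
      · exact hF _ h2
      · have := hk _ h2
        rwa [show tpN (genPts.getD k 0) = cls22.tp (genPt k hk') from tpN_eq (genPt k hk')] at this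
    refine MulEquiv.ext fun y => ?_
    have hy : y ∈ lettersGroup allGens gen := by
      rw [top_eq_lettersGroup (edges := Fi22.edges) (extra := Fi22.extra) allGens mem_allGens]; trivial
    have hle : lettersGroup allGens gen ≤ θ.toMonoidHom.eqLocus (MonoidHom.id _) := by
      refine (Subgroup.closure_le _).2 ?_
      rintro _ ⟨x, -, rfl⟩
      have e : genAt (idx x) = x := by cases x <;> rfl
      have := hg (idx x) (by cases x <;> decide)
      rwa [e] at this
    exact hle hy
  | cons s l ih =>
    intro known h hk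
    obtain ⟨a, b, c⟩ := s
    simp only [okSteps, Bool.and_eq_true, Bool.or_eq_true, inL_iff, Nat.beq_eq] at h
    obtain ⟨⟨⟨⟨⟨⟨ha, hb⟩, hc⟩, hka⟩, hkb⟩, hs⟩, hrest⟩ := h
    have fixOf : ∀ x, okP x = true → (inF x = true ∨ x ∈ known) → θ (tpN x) = tpN x := by
      intro x hx h
      rcases h with h | h
      · obtain ⟨i, rfl⟩ : ∃ i : Fin Perm.data.n, x = i := ⟨⟨x, okP_lt hx⟩, rfl⟩
        rw [tpN_eq]
        exact hF i h
      · exact hk x h
    refine ih _ hrest fun p hp => ?_
    rcases List.mem_cons.1 hp with rfl | hp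
    swap
    · exact hk p hp
    obtain ⟨pb, rfl⟩ : ∃ i : Fin Perm.data.n, b = i := ⟨⟨b, okP_lt hb⟩, rfl⟩
    have e : tpN p = tpN a * tpN pb * (tpN a)⁻¹ := by
      rw [tpN_eq pb, cls22.conj_tp, ← tpN_eq]
      congr 1
      exact hs.symm.trans (step_img ha pb).symm
    rw [e, map_mul, map_mul, map_inv, fixOf a ha hka, fixOf pb hb hkb]

theorem profile_ok : (profile.all inF && okP movedPt && Nat.beq (sMap movedImg) movedPt) = true ∧
    (allBelow 3510 fun i => !(profile.all fun p => com p i == com p movedPt) || Nat.beq i movedPt ||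
      Nat.beq i movedImg) = true := by
  decide +kernel

/-- only the identity fixes every fixed point -/
theorem eq_one_of_fixes {c : Cfsg.Spor.Fi22} (h : ∀ i : Fin Perm.data.n, inF i = true → π c i = i) : c = 1 := by
  have hF : ∀ i : Fin Perm.data.n, inF i = true → MulAut.conj c (cls22.tp i) = cls22.tp i := fun i hi => by
    rw [MulAut.conj_apply, cls22.conj_tp]
    exact congrArg cls22.tp (h i hi)
  have hok := profile_ok.1
  simp only [Bool.and_eq_true, List.all_eq_true, Nat.beq_eq] at hok
  obtain ⟨⟨hprof, hp⟩, hsq⟩ := hok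
  obtain ⟨p, hpv⟩ : ∃ p : Fin Perm.data.n, (p : ℕ) = movedPt := ⟨⟨movedPt, okP_lt hp⟩, rfl⟩
  have hcase : π c p = p ∨ ((π c p : Fin Perm.data.n) : ℕ) = movedImg := by
    have h2 := allBelow_spec profile_ok.2 _ (π c p).2
    rw [Bool.or_eq_true, Bool.or_eq_true, Nat.beq_eq, Nat.beq_eq] at h2
    rcases h2 with (h2 | h2) | h2
    · exfalso
      rw [Bool.not_eq_true', ← Bool.not_eq_true] at h2
      refine h2 (List.all_eq_true.2 fun q hq => ?_)
      obtain ⟨i, rfl⟩ := exists_fin (hprof q hq)
      rw [beq_iff_eq, ← hpv]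
      exact com_fix (okP_F (hprof _ hq)) (h i (hprof _ hq)) p
    · exact Or.inl (Fin.ext (h2.trans hpv.symm))
    · exact Or.inr h2
  rcases hcase with hc | hc
  · have := aut_chain (θ := MulAut.conj c) hF chain [movedPt] steps_ok fun q hq => by
      rw [List.mem_singleton.1 hq, ← hpv, tpN_eq, MulAut.conj_apply, cls22.conj_tp]
      exact congrArg cls22.tp hc
    exact conj_eq_conj (this.trans (map_one (MulAut.conj : Cfsg.Spor.Fi22 →* MulAut Cfsg.Spor.Fi22)).symm)
  · exfalso
    have := aut_chain (θ := sab * MulAut.conj c)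
      (fun i hi => by rw [MulAut.mul_apply, hF i hi, sab_tp, (fixed_iff i).2 hi])
      chain [movedPt] steps_ok fun q hq => by
        rw [List.mem_singleton.1 hq, ← hpv, tpN_eq, MulAut.mul_apply, MulAut.conj_apply, cls22.conj_tp, sab_tp]
        refine congrArg cls22.tp (Fin.ext ?_)
        rw [sPerm_val, show ((cls22.π c p : Fin Perm.data.n) : ℕ) = movedImg from hc, hsq, hpv]
    refine tau_outer ⟨(abEl * c)⁻¹, ?_⟩
    rw [sab, mul_assoc, ← map_mul] at this
    rw [map_inv, inv_eq_of_mul_eq_one_left this]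

theorem last_ok : okDer steps (levels.map Prod.fst) (levels.map Prod.fst ++ steps.map (fun e => e.2.2)) = true ∧
    okDer steps2 (last :: (levels.map Prod.fst ++ steps.map fun e => e.2.2)) fset = true ∧
    inF last = true ∧ inL (levels.map Prod.fst ++ steps.map fun e => e.2.2) last = false ∧
    (fset.all fun x => inL (levels.map Prod.fst ++ steps.map fun e => e.2.2) x || Nat.beq x last || Nat.beq x rival ||
      !((levels.map Prod.fst ++ steps.map fun e => e.2.2).all fun k => com k x == com k last)) = true ∧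
    (allBelow 3510 fun i => !((levels.map Prod.fst ++ steps.map fun e => e.2.2).all fun k => com k i == com k sepPt) ||
      !(com rival i == com last sepPt)) = true ∧
    ((levels.map Prod.fst ++ steps.map fun e => e.2.2).all inF && Nat.blt sepPt 3510 && inF rival) = true := by
  decide +kernel

/-- only the identity of the fixed group fixes the six bases -/
theorem eq_one_of_bases {c : Cfsg.Spor.Fi22} (hc : c ∈ uGrp) (h : ∀ b ∈ levels.map Prod.fst, FixN c b) : c = 1 := by
  obtain ⟨h1, h2, h3, h4, h5, h6, h7⟩ := last_ok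
  simp only [Bool.and_eq_true, List.all_eq_true, Nat.blt_eq] at h7
  obtain ⟨⟨hkF, hsep⟩, hrivF⟩ := h7
  obtain ⟨K, hK⟩ : ∃ K, K = levels.map Prod.fst ++ steps.map fun e => e.2.2 := ⟨_, rfl⟩
  rw [← hK] at h1 h2 h4 h5 h6 hkF
  have hKfix := der_fix hc steps _ _ h1 h
  obtain ⟨l, hl⟩ := exists_fin h3
  have hlast : π c l = l := by
    have hx := List.all_eq_true.1 h5 _ (inF_iff.1 (uGrp_inF hc (hl ▸ h3)))
    simp only [Bool.or_eq_true, inL_iff, Nat.beq_eq, Bool.not_eq_true', ← Bool.not_eq_true, List.all_eq_true,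
      beq_iff_eq] at hx
    rcases hx with ((hx | hx) | hx) | hx
    · exfalso
      have e := hKfix _ hx (π c l) rfl
      rw [(π c).injective e, ← hl] at hx
      rw [← Bool.not_eq_true, inL_iff] at h4
      exact h4 hx
    · exact Fin.ext (hx.trans hl)
    · exfalso
      obtain ⟨p, hp⟩ : ∃ p : Fin Perm.data.n, sepPt = p := ⟨⟨sepPt, hsep⟩, rfl⟩
      have h8 := allBelow_spec h6 _ (π c p).2
      simp only [Bool.or_eq_true, Bool.not_eq_true', ← Bool.not_eq_true, List.all_eq_true, beq_iff_eq] at h8
      rcases h8 with h8 | h8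
      · refine h8 fun k hk => ?_
        obtain ⟨ki, rfl⟩ := exists_fin (hkF k hk)
        rw [hp]
        exact com_fix (okP_F (hkF _ hk)) (hKfix _ hk ki rfl) p
      · refine h8 ?_
        rw [← hx, hl, hp]
        exact com_map c (okP_F (hl ▸ h3)) (okP_F (uGrp_inF hc (hl ▸ h3)))
    · exfalso
      refine hx fun k hk => ?_
      obtain ⟨ki, rfl⟩ := exists_fin (hkF k hk)
      rw [hl]
      exact com_fix (okP_F (hkF _ hk)) (hKfix _ hk ki rfl) l
  have hall := der_fix hc steps2 _ fset h2 fun p hp => by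
    rcases List.mem_cons.1 hp with rfl | hp
    · intro i hi
      rw [show i = l from Fin.ext (hi.trans hl), hlast]
    · exact hKfix p hp
  exact eq_one_of_fixes fun i hi => hall _ (inF_iff.1 hi) i rfl

end CfsgLib.Spor.Fi22.OuterSAB
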